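import Cfsg.Agent.ThC.Main
import Cfsg.Agent.Chev.AllC

/-! The Levi data `TA` for the exceptional types. -/

set_option autoImplicit false

namespace Cfsg.Agent.ThC

open Matrix Chev Cfsg.Lie Finset

attribute [-simp] zsmul_eq_mul

section
variable {D : ChevalleyDatum} [Good D]

theorem exists_orth (L : List (Rt D)) (hL : L.Pairwise fun a b => A a b = 0) :
    ∃ w : WG D, ∀ r : Rt D, (∀ a, (∀ b ∈ L, A a b = 0) → A a (w • r) = A a r) ∧
      ∀ j, rtv (w • r) j = rtv r j - (L.map fun β => A β r * rtv β j).sum := by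
  induction L with
  | nil => exact ⟨1, by simp⟩
  | cons β L ih =>
    obtain ⟨h1, h2⟩ := List.pairwise_cons.1 hL
    obtain ⟨w, hw⟩ := ih h2
    refine ⟨rW β * w, fun r => ⟨fun a ha => ?_, fun j => ?_⟩⟩
    · rw [mul_smul, rW_smul, A_refl_right, ha β (by simp), (hw r).1 a fun b hb => ha b (by simp [hb])]; simp
    · rw [mul_smul, rW_smul, rtv_refl, (hw r).1 β h1]; simp [(hw r).2]; ring

/-- A root from its number. -/
def rtL (n : ℕ) : Rt D := ⟨n % D.nroots, Nat.mod_lt _ nroots_pos⟩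
/-- A table of roots. -/
def tbL (k : ℕ) (ρ : List (List ℕ)) (i j : Fin (k + 2)) : Rt D := rtL ((ρ.getD i []).getD j 0)
/-- A vector from a list. -/
def vL (D : ChevalleyDatum) (l : List ℤ) : Sm D → ℤ := fun i => l.getD i 0

/-- A Levi datum from tables. -/
def taOf {k : ℕ} (ρ : List (List ℕ)) (e : List (List ℤ)) (ψ y z : List ℤ) (δ : ℤ) (L : List ℕ) (W : List (List ℤ))
    (he : ∀ i j : Fin (k + 2), i ≠ j → ∀ l : Fin (k + 2), vL D (e.getD l []) ⬝ᵥ rtv (tbL k ρ i j) =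
      (if l = i then 1 else 0) - if l = j then 1 else 0)
    (hA : ∀ i j l, i ≠ j → i ≠ l → j ≠ l → A (D := D) (tbL k ρ i j) (tbL k ρ j l) = -1)
    (lev : ∀ r, vL D ψ ⬝ᵥ rtv r = 0 ↔ ∃ i j, i ≠ j ∧ r = tbL k ρ i j) (dom : ∀ i, 0 ≤ vL D ψ i)
    (hz : ∀ j, ∑ i, vL D y i * car i (sm j) = vL D z j)
    (hy : ∀ r, vL D ψ ⬝ᵥ rtv r ≠ 0 → vL D z ⬝ᵥ rtv r ≠ 0 ∧ |vL D z ⬝ᵥ rtv r| ≤ 7)
    (hρ : ∀ i j, i ≠ j → vL D z ⬝ᵥ rtv (tbL k ρ i j) = (if i = 0 then δ else 0) - if j = 0 then δ else 0)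
    (hδ : δ ≠ 0 ∧ |δ| ≤ 7) (hL : (L.map (rtL (D := D))).Pairwise fun a b => A a b = 0)
    (hW : ∀ i j : Sm D, rtv (sm i) j - ((L.map rtL).map fun β => A β (sm i) * rtv β j).sum = vL D (W.getD i []) j)
    (h1 : ∀ i : Sm D, vL D z ⬝ᵥ vL D (W.getD i []) = -vL D z i)
    (h2 : ∀ i j, i ≠ j → ∀ l, ∑ p : Sm D, rtv (tbL k ρ i j) p * vL D (W.getD p []) l = rtv (tbL k ρ j i) l) :
    TA D k where
  ρ := tbL k ρ
  e l := vL D (e.getD l [])
  ψ := vL D ψ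
  y := vL D y
  z := vL D z
  δ := δ
  he := he
  hA := hA
  lev := lev
  dom r hr := sum_nonneg fun i _ => mul_nonneg (dom i) (hr i)
  hz r := by
    simp only [car_lin _ r, mul_sum, dotProduct, ← hz, sum_mul]
    rw [sum_comm]
    exact sum_congr rfl fun _ _ => sum_congr rfl fun _ _ => by ring
  hy := hy
  hρ := hρ
  hδ := hδ
  hw := (exists_orth _ hL).imp fun w hw => by
    have h : ∀ r : Rt D, rtv (w • r) = ∑ p : Sm D, rtv r p • vL D (W.getD p []) := fun r => by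
      rw [rtv_smul_eq_sum]
      exact sum_congr rfl fun p _ => congrArg _ (funext fun j => ((hw _).2 j).trans (hW p j))
    refine ⟨fun r => ?_, fun i j e => rtv_injective (funext fun l => ?_)⟩
    · simp only [h, dotProduct_sum, dotProduct_smul, h1, smul_eq_mul]
      simp [dotProduct, mul_comm]
    · rw [h, ← h2 i j e, Finset.sum_apply]; rfl

end

/-- Type `G2`. -/
def taG2 : TA chevG2 0 :=
  taOf [[0, 7], [4, 0]]
    [[1, 0], [-1, 0]]
    [0, 1] [3, 5] [1, 1] 1 [6, 9]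
    [[-1, 0], [0, -1]]
    (by decide +kernel) (by decide +kernel) (by decide +kernel) (by decide +kernel) (by decide +kernel)
    (by decide +kernel) (by decide +kernel) (by decide +kernel) (by decide +kernel) (by decide +kernel)
    (by decide +kernel) (by decide +kernel)

/-- Type `F4`. -/
def taF4 : TA chevF4 1 :=
  taOf [[0, 33, 34], [14, 0, 27], [13, 20, 0]]
    [[1, 0, 0, 0], [-1, 1, 0, 0], [0, -1, 0, 0]]
    [0, 0, 1, 1] [5, 9, 13, 7] [1, 0, 1, 1] 1 [24, 27, 32, 44]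
    [[-1, 0, 0, 0], [0, -1, 0, 0], [0, 0, -1, 0], [0, 0, 0, -1]]
    (by decide +kernel) (by decide +kernel) (by decide +kernel) (by decide +kernel) (by decide +kernel)
    (by decide +kernel) (by decide +kernel) (by decide +kernel) (by decide +kernel) (by decide +kernel)
    (by decide +kernel) (by decide +kernel)

/-- Type `E6`. -/
def taE6 : TA chevE6 2 :=
  taOf [[0, 42, 43, 44], [29, 0, 39, 40], [28, 32, 0, 37], [27, 31, 34, 0]]
    [[0, 0, 1, 0, 0, 0], [0, 0, -1, 1, 0, 0], [0, 0, 0, -1, 1, 0], [0, 0, 0, 0, -1, 0]]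
    [1, 1, 0, 0, 0, 1] [0, 4, -1, 2, 1, 0] [1, 6, -4, 0, 0, -1] (-4) [37, 42, 46, 53]
    [[1, 1, 2, 2, 1, 0], [0, -1, 0, 0, 0, 0], [0, 0, -1, 0, 0, 0], [0, 0, 0, -1, 0, 0], [0, 0, 0, 0, -1, 0], [0, 1, 1, 2, 2, 1]]
    (by decide +kernel) (by decide +kernel) (by decide +kernel) (by decide +kernel) (by decide +kernel)
    (by decide +kernel) (by decide +kernel) (by decide +kernel) (by decide +kernel) (by decide +kernel)
    (by decide +kernel) (by decide +kernel)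

/-- Type `E7`. -/
def taE7 : TA chevE7 5 :=
  taOf [[0, 63, 65, 68, 72, 77, 98], [62, 0, 64, 67, 71, 76, 97], [60, 61, 0, 66, 70, 75, 96], [57, 58, 59, 0, 69, 74, 95], [53, 54, 55, 56, 0, 73, 94], [48, 49, 50, 51, 52, 0, 93], [27, 28, 29, 30, 31, 32, 0]]
    [[0, 0, 0, 0, 0, 0, 1], [0, 0, 0, 0, 0, 1, -1], [0, 0, 0, 0, 1, -1, 0], [0, 0, 0, 1, -1, 0, 0], [0, 0, 1, -1, 0, 0, 0], [1, 0, -1, 0, 0, 0, 0], [-1, 0, 0, 0, 0, 0, 0]]
    [0, 1, 0, 0, 0, 0, 0] [3, 5, 6, 9, 7, 5, 3] [0, 1, 0, 0, 0, 0, 1] 1 [63, 66, 73, 78, 87, 92, 125]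
    [[-1, 0, 0, 0, 0, 0, 0], [0, -1, 0, 0, 0, 0, 0], [0, 0, -1, 0, 0, 0, 0], [0, 0, 0, -1, 0, 0, 0], [0, 0, 0, 0, -1, 0, 0], [0, 0, 0, 0, 0, -1, 0], [0, 0, 0, 0, 0, 0, -1]]
    (by decide +kernel) (by decide +kernel) (by decide +kernel) (by decide +kernel) (by decide +kernel)
    (by decide +kernel) (by decide +kernel) (by decide +kernel) (by decide +kernel) (by decide +kernel)
    (by decide +kernel) (by decide +kernel)

/-- Type `E8`. -/
def taE8 : TA chevE8 6 :=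
  taOf [[0, 120, 122, 125, 129, 134, 140, 168], [119, 0, 121, 124, 128, 133, 139, 167], [117, 118, 0, 123, 127, 132, 138, 166], [114, 115, 116, 0, 126, 131, 137, 165], [110, 111, 112, 113, 0, 130, 136, 164], [105, 106, 107, 108, 109, 0, 135, 163], [99, 100, 101, 102, 103, 104, 0, 162], [71, 72, 73, 74, 75, 76, 77, 0]]
    [[0, 0, 0, 0, 0, 0, 0, 1], [0, 0, 0, 0, 0, 0, 1, -1], [0, 0, 0, 0, 0, 1, -1, 0], [0, 0, 0, 0, 1, -1, 0, 0], [0, 0, 0, 1, -1, 0, 0, 0], [0, 0, 1, -1, 0, 0, 0, 0], [1, 0, -1, 0, 0, 0, 0, 0], [-1, 0, 0, 0, 0, 0, 0, 0]]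
    [0, 1, 0, 0, 0, 0, 0, 0] [7, 11, 14, 21, 17, 13, 9, 5] [0, 1, 0, 0, 0, 0, 0, 1] 1 [120, 123, 130, 147, 156, 161, 232, 233]
    [[-1, 0, 0, 0, 0, 0, 0, 0], [0, -1, 0, 0, 0, 0, 0, 0], [0, 0, -1, 0, 0, 0, 0, 0], [0, 0, 0, -1, 0, 0, 0, 0], [0, 0, 0, 0, -1, 0, 0, 0], [0, 0, 0, 0, 0, -1, 0, 0], [0, 0, 0, 0, 0, 0, -1, 0], [0, 0, 0, 0, 0, 0, 0, -1]]
    (by decide +kernel) (by decide +kernel) (by decide +kernel) (by decide +kernel) (by decide +kernel)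
    (by decide +kernel) (by decide +kernel) (by decide +kernel) (by decide +kernel) (by decide +kernel)
    (by decide +kernel) (by decide +kernel)

end Cfsg.Agent.ThC
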